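import Cfsg.Agent.H28.ClassGraph
import Cfsg.Agent.H27.ConjUnion
import Cfsg.Agent.H27.ClassBasic
import Cfsg.Agent.H1.CoprimeAction
import Cfsg.Agent.H1.Wielandt

/-!
In a finite non-solvable group the prime graph on class sizes has diameter at most two.

Let `p`, `q` be two nonadjacent vertices without common neighbour.  By Itô one of them, say `p`,
has a Sylow subgroup `P` central in its normalizer; then `P` does not meet `D = G'`.  If the same
holds for `q`, coprime indices give `D = C_D(P) C_D(Q)`, so that `[D,P]` is centralised by `Q` and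
`[D,Q]` by `P`, and a product of two suitable elements has class size divisible by `p * q`.
Otherwise every prime divisor of `#D` is nonadjacent to `p`, so elements of `D` with class size
divisible by `p` are central in `D`, and `D'` is centralised by all conjugates of `P`.
-/

set_option autoImplicit false
set_option linter.style.haveILetI false

namespace H8.ClassGraphDiam

open Subgroup
open scoped Pointwise commutatorElement

variable {G : Type*} [Group G] [Finite G]


/-- The Sylow `p`-subgroups are central in their normalizers. -/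
def SylCen (G : Type*) [Group G] (p : ℕ) : Prop :=
  ∀ P : Sylow p G, normalizer ((P : Subgroup G) : Set G) ≤ centralizer ((P : Subgroup G) : Set G)

/-- `p` and `q` jointly divide a class size. -/
def Adj (G : Type*) [Group G] (p q : ℕ) : Prop :=
  ∃ x : G, p ∣ (centralizer ({x} : Set G)).index ∧ q ∣ (centralizer ({x} : Set G)).index

theorem adj_comm {p q : ℕ} (h : Adj G p q) : Adj G q p :=
  h.imp fun _ hx => ⟨hx.2, hx.1⟩

theorem sylCen_or {p q : ℕ} [hp : Fact p.Prime] [hq : Fact q.Prime] (hpq : p ≠ q)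
    (h : ¬ Adj G p q) : SylCen G p ∨ SylCen G q := by
  have h' : ∀ g : G, ¬ p * q ∣ H28.ClassGraph.cl g := fun g hg =>
    h ⟨g, (dvd_mul_right p q).trans hg, (dvd_mul_left q p).trans hg⟩
  by_contra hne
  obtain ⟨h1, h2⟩ := not_or.mp hne
  obtain ⟨P, hP⟩ := not_forall.mp h1
  obtain ⟨Q, hQ⟩ := not_forall.mp h2
  exact (H28.ClassGraph.ito hpq h' P Q).elim hP hQ

section OnePrime

variable {p : ℕ} [hp : Fact p.Prime] (hcen : SylCen G p) (P : Sylow p G)

include hcen in
theorem sylow_le_centralizer_self : (P : Subgroup G) ≤ centralizer ((P : Subgroup G) : Set G) :=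
  le_normalizer.trans (hcen P)

include hcen in
theorem not_dvd_card_commutator : ¬ p ∣ Nat.card (commutator G) := by
  obtain ⟨P⟩ : Nonempty (Sylow p G) := inferInstance
  haveI : IsMulCommutative (P : Subgroup G) :=
    le_centralizer_iff_isMulCommutative.mp (sylow_le_centralizer_self hcen P)
  have hle : commutator G ≤ (MonoidHom.transferSylow P (hcen P)).ker := by
    rw [_root_.commutator_def, commutator_le]
    intro a _ b _
    rw [MonoidHom.mem_ker, map_commutatorElement, commutatorElement_eq_one_iff_mul_comm]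
    exact mul_comm' _ _
  exact fun h => MonoidHom.not_dvd_card_ker_transferSylow P (hcen P)
    (h.trans (card_dvd_of_le hle))

include hcen in
/-- If the normal subgroup `I` contains all `[g, y]`, `y ∈ P`, then `G = I C(P)`. -/
theorem exists_mul_mem_centralizer (I : Subgroup G) [I.Normal]
    (hI : ∀ g : G, ∀ y ∈ (P : Subgroup G), g * y * g⁻¹ * y⁻¹ ∈ I) (g : G) :
    ∃ i ∈ I, ∃ c ∈ centralizer ((P : Subgroup G) : Set G), g = i * c := by
  set M : Subgroup G := I ⊔ (P : Subgroup G) with hM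
  have hPM : (P : Subgroup G) ≤ M := le_sup_right
  have hgPM : ((g • P : Sylow p G) : Subgroup G) ≤ M := by
    rw [Sylow.coe_subgroup_smul]
    rintro _ ⟨y, hy, rfl⟩
    have h : g * y * g⁻¹ * y⁻¹ * y ∈ M := mul_mem (mem_sup_left (hI g y hy)) (mem_sup_right hy)
    simpa using h
  obtain ⟨m, hm⟩ := MulAction.exists_smul_eq M (P.subtype hPM) ((g • P).subtype hgPM)
  simp_rw [Sylow.smul_subtype, Subgroup.smul_def] at hm
  have hm' : (m : G) • P = g • P := Sylow.subtype_injective hm
  have hn : (m : G)⁻¹ * g ∈ normalizer ((P : Subgroup G) : Set G) := by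
    refine Sylow.smul_eq_iff_mem_normalizer.mp ?_
    rw [mul_smul]
    exact inv_smul_eq_iff.mpr hm'.symm
  have hmem : (m : G) ∈ ((I : Set G) * ((P : Subgroup G) : Set G)) := by
    rw [← normal_mul]
    exact m.2
  obtain ⟨i, hi, y, hy, hiy⟩ := Set.mem_mul.mp hmem
  refine ⟨i, hi, y * ((m : G)⁻¹ * g),
    mul_mem (sylow_le_centralizer_self hcen P hy) (hcen P hn), ?_⟩
  rw [← mul_assoc, hiy, mul_inv_cancel_left]

include hcen in
theorem exists_conj_mem_centralizer (I : Subgroup G) [I.Normal]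
    (hI : ∀ g : G, ∀ y ∈ (P : Subgroup G), g * y * g⁻¹ * y⁻¹ ∈ I) {x : G}
    (hx : ¬ p ∣ (centralizer ({x} : Set G)).index) :
    ∃ i ∈ I, i⁻¹ * x * i ∈ centralizer ((P : Subgroup G) : Set G) := by
  obtain ⟨g, hg⟩ := H27.exists_smul_centralizer P hx
  obtain ⟨i, hi, c, hc, rfl⟩ := exists_mul_mem_centralizer hcen P I hI g
  refine ⟨i, hi, ?_⟩
  have h : i⁻¹ * x * i = c * ((i * c)⁻¹ * x * (i * c)) * c⁻¹ := by group
  rw [h]
  exact mul_mem (mul_mem hc hg) (inv_mem hc)

include hcen in
/-- If `p` is a vertex, a normal subgroup containing all `[g, y]`, `y ∈ P`, has an element whose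
class size is divisible by `p`. -/
theorem exists_dvd (I : Subgroup G) [I.Normal]
    (hI : ∀ g : G, ∀ y ∈ (P : Subgroup G), g * y * g⁻¹ * y⁻¹ ∈ I)
    (hv : ∃ x : G, p ∣ (centralizer ({x} : Set G)).index) : ∃ x ∈ I, p ∣ (centralizer ({x} : Set G)).index := by
  by_contra hne
  have hne' : ∀ x ∈ I, ¬ p ∣ (centralizer ({x} : Set G)).index := fun x hx hd => hne ⟨x, hx, hd⟩
  have htop : (centralizer ((P : Subgroup G) : Set G)).subgroupOf I = ⊤ := by
    refine H27.eq_top_of_forall_conj_mem _ fun x => ?_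
    obtain ⟨i, hi, h⟩ := exists_conj_mem_centralizer hcen P I hI (hne' x x.2)
    exact ⟨⟨i, hi⟩, mem_subgroupOf.mpr h⟩
  have hIC := subgroupOf_eq_top.mp htop
  have hall : ∀ g : G, g ∈ centralizer ((P : Subgroup G) : Set G) := by
    intro g
    obtain ⟨i, hi, c, hc, rfl⟩ := exists_mul_mem_centralizer hcen P I hI g
    exact mul_mem (hIC hi) hc
  obtain ⟨x, hx⟩ := hv
  exact H27.not_dvd_index_cent_iff.mpr ⟨P, hall x⟩ hx

omit [Finite G] hp in
theorem comm_mem_commutator (g y : G) : g * y * g⁻¹ * y⁻¹ ∈ commutator G := by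
  rw [_root_.commutator_def]
  exact commutator_mem_commutator (mem_top g) (mem_top y)

/-- A normal subgroup centralised by `P` is centralised by every Sylow `p`-subgroup, so it cannot
contribute to the `p`-part of a class size. -/
theorem dvd_mul_of_mem_normal (J : Subgroup G) [J.Normal]
    (hJ : J ≤ centralizer ((P : Subgroup G) : Set G)) {a b : G} (hb : b ∈ J) (ha : p ∣ (centralizer ({a} : Set G)).index) :
    p ∣ (centralizer ({a * b} : Set G)).index := by
  by_contra hne
  obtain ⟨g, hg⟩ := H27.exists_smul_centralizer P hne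
  have hb' : g⁻¹ * b * g ∈ centralizer ((P : Subgroup G) : Set G) := hJ (by
    simpa using (inferInstance : J.Normal).conj_mem b hb g⁻¹)
  have ha' : g⁻¹ * a * g ∈ centralizer ((P : Subgroup G) : Set G) := by
    have h := mul_mem hg (inv_mem hb')
    have e : g⁻¹ * (a * b) * g * (g⁻¹ * b * g)⁻¹ = g⁻¹ * a * g := by group
    rwa [e] at h
  have h1 : ¬ p ∣ (centralizer ({g⁻¹ * a * g} : Set G)).index := H27.not_dvd_index_cent_iff.mpr ⟨P, ha'⟩
  apply h1
  have h2 := H27.index_cent_conj g⁻¹ a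
  rw [inv_inv] at h2
  rwa [h2]

theorem dvd_mul_of_mem_normal' (J : Subgroup G) [J.Normal]
    (hJ : J ≤ centralizer ((P : Subgroup G) : Set G)) {a b : G} (hb : b ∈ J) (ha : p ∣ (centralizer ({a} : Set G)).index) :
    p ∣ (centralizer ({b * a} : Set G)).index := by
  have h := dvd_mul_of_mem_normal P J hJ hb ha
  have e : b * a = b * (a * b) * b⁻¹ := by group
  rw [e, H27.index_cent_conj]
  exact h

end OnePrime

section TwoPrimes

variable {p q : ℕ} [hp : Fact p.Prime] [hq : Fact q.Prime]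

/-- A prime nonadjacent to `p` divides no index `|D : C_D(Q)|`. -/
theorem not_dvd_relIndex (hnadj : ¬ Adj G p q) (hcp : SylCen G p) (hcq : SylCen G q)
    (P : Sylow p G) (Q : Sylow q G) (hv : ∃ x : G, p ∣ (centralizer ({x} : Set G)).index) {r : ℕ} [hr : Fact r.Prime]
    (hpr : ¬ Adj G p r) :
    ¬ r ∣ (centralizer ((Q : Subgroup G) : Set G)).relIndex (commutator G) := by
  set D := commutator G
  obtain ⟨x, hxD, hx⟩ := exists_dvd hcp P D (fun g y _ => comm_mem_commutator g y) hv
  have hqx : ¬ q ∣ (centralizer ({x} : Set G)).index := fun h => hnadj ⟨x, hx, h⟩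
  obtain ⟨i, hi, hk⟩ := exists_conj_mem_centralizer hcq Q D
    (fun g y _ => comm_mem_commutator g y) hqx
  set k := i⁻¹ * x * i
  have hkD : k ∈ D := mul_mem (mul_mem (inv_mem hi) hxD) hi
  have hpk : p ∣ (centralizer ({k} : Set G)).index := by
    have h2 := H27.index_cent_conj i⁻¹ x
    rw [inv_inv] at h2
    rw [show k = i⁻¹ * x * i from rfl, h2]
    exact hx
  have hqD := not_dvd_card_commutator hcq
  have hcop : (Nat.card (Q : Subgroup G)).Coprime (Nat.card D) := by
    rw [Q.card_eq_multiplicity]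
    exact (hq.out.coprime_iff_not_dvd.mpr hqD).pow_left _
  haveI : IsMulCommutative (Q : Subgroup G) :=
    le_centralizer_iff_isMulCommutative.mp (sylow_le_centralizer_self hcq Q)
  have hsolQ : Group.IsSolvable (Q : Subgroup G) := Group.isSolvable_of_comm mul_comm'
  obtain ⟨R, hR⟩ := H1.exists_invariant_sylow (A := (Q : Subgroup G)) (K := D)
    (by rw [normalizer_eq_top]; exact le_top) hcop (Or.inl hsolQ) r
  have key : ∀ z ∈ (Q : Subgroup G),
      (R : Subgroup D).map D.subtype ≤ centralizer ({z} : Set G) := by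
    intro z hz
    have hcomm : Commute k z := (mem_centralizer_iff.mp hk z hz).symm
    have hord : (orderOf k).Coprime (orderOf z) :=
      (hcop.coprime_dvd_left (Subgroup.orderOf_dvd_natCard _ hz)).symm.coprime_dvd_left
        (Subgroup.orderOf_dvd_natCard _ hkD)
    have hrz : ¬ r ∣ (centralizer ({z} : Set G)).index := fun h => hpr ⟨k * z,
      hpk.trans (H27.index_left_dvd_mul hcomm hord), h.trans (H27.index_right_dvd_mul hcomm hord)⟩
    have hrD : ¬ r ∣ ((centralizer ({z} : Set G)).subgroupOf D).index :=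
      fun h => hrz (h.trans (H27.relIndex_dvd_index_right _ D))
    obtain ⟨R0, hR0⟩ := H27.exists_sylow_le_of_not_dvd_index hrD
    have hzQ : zpowers z ≤ (Q : Subgroup G) := zpowers_le.mpr hz
    have hR0' : (R0 : Subgroup D).map D.subtype ≤ centralizer ({z} : Set G) := by
      rintro _ ⟨u, hu, rfl⟩
      exact mem_subgroupOf.mp (hR0 hu)
    have hR0inv : zpowers z ≤
        normalizer (((R0 : Subgroup D).map D.subtype : Subgroup G) : Set G) := by
      refine le_trans ?_ (centralizer_le_normalizer _)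
      rw [zpowers_le]
      exact H27.le_cent_iff.mp hR0'
    obtain ⟨c, hc, hcR⟩ := H1.exists_fixed_conj_sylow (A := zpowers z) (K := D)
      (by rw [normalizer_eq_top]; exact le_top)
      (hcop.coprime_dvd_left (card_dvd_of_le hzQ))
      (Or.inl (Group.isSolvable_of_comm mul_comm')) r R0 R hR0inv (hzQ.trans hR)
    have hcz : (c : G) ∈ centralizer ({z} : Set G) :=
      H27.mem_cent.mpr (mem_centralizer_iff.mp hc z (mem_zpowers z)).symm
    rintro _ ⟨u, hu, rfl⟩
    rw [← hcR, Sylow.pointwise_smul_def] at hu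
    obtain ⟨w, hw, rfl⟩ := hu
    simpa using mul_mem (mul_mem hcz (hR0' ⟨w, hw, rfl⟩)) (inv_mem hcz)
  intro hdvd
  refine R.not_dvd_index (hdvd.trans (index_dvd_of_le fun u hu => ?_))
  refine mem_subgroupOf.mpr (mem_centralizer_iff.mpr fun z hz => ?_)
  exact (H27.mem_cent.mp (key z hz ⟨u, hu, rfl⟩)).symm

/-- If `k⁻¹ y k y⁻¹ ∈ C(Q)` for all `k ∈ D` and `y ∈ P`, then all `[g, y]` are in the largest
normal subgroup of `D ∩ C(Q)`. -/
theorem comm_mem_normalCore (hcp : SylCen G p) (P : Sylow p G) (V : Subgroup G)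
    (hV : ∀ k ∈ commutator G, ∀ y ∈ (P : Subgroup G), k⁻¹ * y * k * y⁻¹ ∈ V) (g y : G)
    (hy : y ∈ (P : Subgroup G)) : g * y * g⁻¹ * y⁻¹ ∈ V.normalCore := by
  set D := commutator G
  haveI : D.Normal := inferInstance
  have hfac := exists_mul_mem_centralizer hcp P D fun g y _ => comm_mem_commutator g y
  intro b
  obtain ⟨d, hd, c, hc, rfl⟩ := hfac g
  obtain ⟨e, he, c', hc', rfl⟩ := hfac b
  have hcy : c * y = y * c := (mem_centralizer_iff.mp hc y hy).symm
  have hcy' : c' * y = y * c' := (mem_centralizer_iff.mp hc' y hy).symm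
  set k : G := c' * d⁻¹ * c'⁻¹
  have hkD : k ∈ D := (inferInstance : D.Normal).conj_mem _ (inv_mem hd) c'
  have hs : (k * e⁻¹)⁻¹ * y * (k * e⁻¹) * y⁻¹ * ((e⁻¹)⁻¹ * y * e⁻¹ * y⁻¹)⁻¹ ∈ V :=
    mul_mem (hV _ (mul_mem hkD (inv_mem he)) y hy) (inv_mem (hV _ (inv_mem he) y hy))
  have e1 : d * c * y * (d * c)⁻¹ * y⁻¹ = d * y * d⁻¹ * y⁻¹ := by
    calc d * c * y * (d * c)⁻¹ * y⁻¹ = d * (c * y) * c⁻¹ * d⁻¹ * y⁻¹ := by group
      _ = d * (y * c) * c⁻¹ * d⁻¹ * y⁻¹ := by rw [hcy]
      _ = d * y * d⁻¹ * y⁻¹ := by group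
  have hy1 : c' * y * c'⁻¹ = y := by rw [hcy', mul_inv_cancel_right]
  have e2 : e * c' * (d * y * d⁻¹ * y⁻¹) * (e * c')⁻¹
      = e * (k⁻¹ * (c' * y * c'⁻¹) * k * (c' * y * c'⁻¹)⁻¹) * e⁻¹ := by
    simp only [k]; group
  rw [e1, e2, hy1]
  convert hs using 1
  group

/-- Both Sylow subgroups central in their normalizers. -/
theorem false_of_both (hnadj : ¬ Adj G p q) (hcp : SylCen G p) (hcq : SylCen G q)
    (hvp : ∃ x : G, p ∣ (centralizer ({x} : Set G)).index) (hvq : ∃ x : G, q ∣ (centralizer ({x} : Set G)).index)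
    (hcov : ∀ r : ℕ, r.Prime → r ∣ Nat.card (commutator G) → ¬ Adj G p r ∨ ¬ Adj G q r) :
    False := by
  classical
  set D := commutator G
  haveI : D.Normal := inferInstance
  obtain ⟨Q⟩ : Nonempty (Sylow q G) := inferInstance
  obtain ⟨P, hPQ⟩ : ∃ P : Sylow p G,
      (P : Subgroup G) ≤ centralizer ((Q : Subgroup G) : Set G) := by
    refine H27.exists_sylow_le_of_not_dvd_index fun h => ?_
    have htop : D ⊔ centralizer ((Q : Subgroup G) : Set G) = ⊤ := by
      refine eq_top_iff.mpr fun g _ => ?_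
      obtain ⟨d, hd, c, hc, rfl⟩ :=
        exists_mul_mem_centralizer hcq Q D (fun g y _ => comm_mem_commutator g y) g
      exact mul_mem (mem_sup_left hd) (mem_sup_right hc)
    refine not_dvd_card_commutator hcp (h.trans ⟨Nat.card (D ⊓ centralizer
      ((Q : Subgroup G) : Set G) : Subgroup G), ?_⟩)
    set C := centralizer ((Q : Subgroup G) : Set G)
    have h1 : D.relIndex C = D.index := by
      rw [← relIndex_sup_left, htop, relIndex_top_right]
    have h2 := card_mul_index C
    have h3 := card_mul_index D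
    have h4 : Nat.card (D ⊓ C : Subgroup G) * D.relIndex C = Nat.card C := by
      rw [← relIndex_bot_left, ← inf_relIndex_right D C,
        relIndex_mul_relIndex _ _ _ bot_le inf_le_right, relIndex_bot_left]
    rw [h1] at h4
    refine Nat.eq_of_mul_eq_mul_right (Nat.pos_of_ne_zero D.index_ne_zero_of_finite) ?_
    rw [h3, mul_assoc, h4, mul_comm, h2]
  have hQP : (Q : Subgroup G) ≤ centralizer ((P : Subgroup G) : Set G) :=
    le_centralizer_iff.mp hPQ
  set U := centralizer ((P : Subgroup G) : Set G)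
  set V := centralizer ((Q : Subgroup G) : Set G)
  have hcop : (U.subgroupOf D).index.Coprime (V.subgroupOf D).index := by
    refine Nat.coprime_of_dvd fun r hr hU hV => ?_
    haveI := Fact.mk hr
    rcases hcov r hr (hU.trans (index_dvd_card _)) with h | h
    · exact not_dvd_relIndex hnadj hcp hcq P Q hvp h hV
    · exact not_dvd_relIndex (fun a => hnadj (adj_comm a)) hcq hcp Q P hvq h hU
  have hVcom : ∀ k ∈ D, ∀ y ∈ (P : Subgroup G), k⁻¹ * y * k * y⁻¹ ∈ V := by
    intro k hk y hy
    obtain ⟨u, hu, v, hv, huv⟩ := H1.exists_mul_eq_of_coprime_index _ _ hcop ⟨k, hk⟩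
    have huv' : k = (u : G) * (v : G) := congrArg Subtype.val huv
    have hyu : y * (u : G) = (u : G) * y := mem_centralizer_iff.mp (mem_subgroupOf.mp hu) y hy
    have e : k⁻¹ * y * k * y⁻¹ = (v : G)⁻¹ * y * (v : G) * y⁻¹ := by
      rw [huv']
      calc ((u : G) * v)⁻¹ * y * ((u : G) * v) * y⁻¹
          = (v : G)⁻¹ * (u : G)⁻¹ * (y * u) * v * y⁻¹ := by group
        _ = (v : G)⁻¹ * (u : G)⁻¹ * ((u : G) * y) * v * y⁻¹ := by rw [hyu]
        _ = (v : G)⁻¹ * y * (v : G) * y⁻¹ := by group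
    rw [e]
    have hvV : (v : G) ∈ V := mem_subgroupOf.mp hv
    exact mul_mem (mul_mem (mul_mem (inv_mem hvV) (hPQ hy)) hvV) (inv_mem (hPQ hy))
  have hUcom : ∀ k ∈ D, ∀ z ∈ (Q : Subgroup G), k⁻¹ * z * k * z⁻¹ ∈ U := by
    intro k hk z hz
    obtain ⟨v, hv, u, hu, huv⟩ := H1.exists_mul_eq_of_coprime_index _ _ hcop.symm ⟨k, hk⟩
    have huv' : k = (v : G) * (u : G) := congrArg Subtype.val huv
    have hzv : z * (v : G) = (v : G) * z := mem_centralizer_iff.mp (mem_subgroupOf.mp hv) z hz
    have e : k⁻¹ * z * k * z⁻¹ = (u : G)⁻¹ * z * (u : G) * z⁻¹ := by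
      rw [huv']
      calc ((v : G) * u)⁻¹ * z * ((v : G) * u) * z⁻¹
          = (u : G)⁻¹ * (v : G)⁻¹ * (z * v) * u * z⁻¹ := by group
        _ = (u : G)⁻¹ * (v : G)⁻¹ * ((v : G) * z) * u * z⁻¹ := by rw [hzv]
        _ = (u : G)⁻¹ * z * (u : G) * z⁻¹ := by group
    rw [e]
    have huU : (u : G) ∈ U := mem_subgroupOf.mp hu
    exact mul_mem (mul_mem (mul_mem (inv_mem huU) (hQP hz)) huU) (inv_mem (hQP hz))
  obtain ⟨a, ha, hpa⟩ := exists_dvd hcp P V.normalCore
    (fun g y hy => comm_mem_normalCore hcp P V hVcom g y hy) hvp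
  obtain ⟨b, hb, hqb⟩ := exists_dvd hcq Q U.normalCore
    (fun g y hy => comm_mem_normalCore hcq Q U hUcom g y hy) hvq
  exact hnadj ⟨a * b, dvd_mul_of_mem_normal P U.normalCore (normalCore_le _) hb hpa,
    dvd_mul_of_mem_normal' Q V.normalCore (normalCore_le _) ha hqb⟩

end TwoPrimes

/-- `p` has central Sylow subgroups in their normalizers and every prime dividing `#G'` is
nonadjacent to `p`. -/
theorem isSolvable_of_one {p : ℕ} [hp : Fact p.Prime] (hcp : SylCen G p)
    (hv : ∃ x : G, p ∣ (centralizer ({x} : Set G)).index)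
    (hcov : ∀ r : ℕ, r.Prime → r ∣ Nat.card (commutator G) → ¬ Adj G p r) :
    Group.IsSolvable G := by
  classical
  set D := commutator G with hD
  haveI : D.Normal := inferInstance
  obtain ⟨P⟩ : Nonempty (Sylow p G) := inferInstance
  set C := centralizer ((P : Subgroup G) : Set G)
  -- elements moved by `p` are central in `D`
  have hone : ∀ x : G, (∀ r : ℕ, r.Prime → r ∣ Nat.card D → ¬ r ∣ (centralizer ({x} : Set G)).index) →
      D ≤ centralizer ({x} : Set G) := by
    intro x hx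
    refine relIndex_eq_one.mp (Nat.eq_one_iff_not_exists_prime_dvd.mpr fun r hr hd => ?_)
    exact hx r hr (hd.trans (relIndex_dvd_card _ _)) (hd.trans (H27.relIndex_dvd_index_right _ D))
  have hcent : ∀ x : G, p ∣ (centralizer ({x} : Set G)).index → D ≤ centralizer ({x} : Set G) := fun x hx =>
    hone x fun r hr hrD h => hcov r hr hrD ⟨x, hx, h⟩
  set T : Subgroup D := C.subgroupOf D ⊔ center D
  have hT : T = ⊤ := by
    refine H27.eq_top_of_forall_conj_mem _ fun x => ?_
    by_cases hx : p ∣ (centralizer ({(x : G)} : Set G)).index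
    · refine ⟨1, ?_⟩
      rw [inv_one, one_mul, mul_one]
      refine mem_sup_right (mem_center_iff.mpr fun y => Subtype.ext ?_)
      exact H27.mem_cent.mp (hcent _ hx y.2)
    · obtain ⟨i, hi, h⟩ := exists_conj_mem_centralizer hcp P D
        (fun g y _ => comm_mem_commutator g y) hx
      exact ⟨⟨i, hi⟩, mem_sup_left (mem_subgroupOf.mpr h)⟩
  set M : Subgroup G := ⁅D, D⁆ with hM
  have hMC : M ≤ C := by
    rw [hM, commutator_le]
    intro a ha b hb
    have hmem : ∀ x : D, ∃ h : D, (h : G) ∈ C ∧ ∃ z ∈ center D, x = h * z := by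
      intro x
      have hx : x ∈ ((C.subgroupOf D : Set D) * (center D : Set D)) := by
        rw [← mul_normal]
        exact (show x ∈ T from hT ▸ mem_top x)
      obtain ⟨h, hh, z, hz, rfl⟩ := Set.mem_mul.mp hx
      exact ⟨h, mem_subgroupOf.mp hh, z, hz, rfl⟩
    obtain ⟨h, hh, z, hz, e⟩ := hmem ⟨a, ha⟩
    obtain ⟨h', hh', z', hz', e'⟩ := hmem ⟨b, hb⟩
    have key : ⁅(⟨a, ha⟩ : D), (⟨b, hb⟩ : D)⁆ = ⁅h, h'⁆ := by
      rw [e, e', commutatorElement_def, commutatorElement_def]
      have c1 := mem_center_iff.mp hz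
      have c2 := mem_center_iff.mp hz'
      calc h * z * (h' * z') * (h * z)⁻¹ * (h' * z')⁻¹
          = h * (z * (h' * z')) * z⁻¹ * h⁻¹ * z'⁻¹ * h'⁻¹ := by group
        _ = h * ((h' * z') * z) * z⁻¹ * h⁻¹ * z'⁻¹ * h'⁻¹ := by rw [c1 (h' * z')]
        _ = h * h' * (z' * h⁻¹) * z'⁻¹ * h'⁻¹ := by group
        _ = h * h' * (h⁻¹ * z') * z'⁻¹ * h'⁻¹ := by rw [← c2 h⁻¹]
        _ = h * h' * h⁻¹ * h'⁻¹ := by group
    have key' := congrArg (fun t : D => (t : G)) key
    simp only [commutatorElement_def, coe_mul, coe_inv] at key'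
    rw [commutatorElement_def, key']
    exact mul_mem (mul_mem (mul_mem hh hh') (inv_mem hh)) (inv_mem hh')
  by_contra hsol
  obtain ⟨u, huM, hu⟩ : ∃ u ∈ M, ¬ D ≤ centralizer ({u} : Set G) := by
    by_contra hne
    push Not at hne
    refine hsol ((Group.isSolvable_def G).mpr ⟨3, ?_⟩)
    rw [derivedSeries_succ, derivedSeries_succ, derivedSeries_one, eq_bot_iff, commutator_le]
    intro a ha b hb
    rw [mem_bot, commutatorElement_eq_one_iff_mul_comm]
    exact H27.mem_cent.mp (hne b hb (commutator_le_self D ha))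
  obtain ⟨z, hzD, hpz⟩ := exists_dvd hcp P D (fun g y _ => comm_mem_commutator g y) hv
  haveI : M.Normal := inferInstance
  have hp' := dvd_mul_of_mem_normal P M hMC huM hpz
  refine hu fun y hy => ?_
  have h1 : y * (z * u) = z * u * y := H27.mem_cent.mp (hcent _ hp' hy)
  have h2 : y * z = z * y := H27.mem_cent.mp (hcent _ hpz hy)
  refine H27.mem_cent.mpr ?_
  rw [← mul_assoc, h2, mul_assoc, mul_assoc] at h1
  exact mul_left_cancel h1

/-- A nonadjacent pair of class-size primes has a common neighbour in a non-solvable group. -/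
theorem exists_common (hG : ¬ Group.IsSolvable G) {p q : ℕ} [hp : Fact p.Prime] [hq : Fact q.Prime]
    (hpq : p ≠ q) (hnadj : ¬ Adj G p q) (hvp : ∃ x : G, p ∣ (centralizer ({x} : Set G)).index) (hvq : ∃ x : G, q ∣ (centralizer ({x} : Set G)).index) :
    ∃ r : ℕ, r.Prime ∧ r ≠ p ∧ r ≠ q ∧ Adj G p r ∧ Adj G q r := by
  classical
  wlog hcp : SylCen G p generalizing p q
  · obtain ⟨r, hr, h1, h2, h3, h4⟩ := this (hp := hq) (hq := hp) hpq.symm
      (fun a => hnadj (adj_comm a)) hvq hvp ((sylCen_or hpq hnadj).resolve_left hcp)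
    exact ⟨r, hr, h2, h1, h4, h3⟩
  by_contra hne
  have hcov : ∀ r : ℕ, r.Prime → r ∣ Nat.card (commutator G) → ¬ Adj G p r ∨ ¬ Adj G q r := by
    intro r hr hrD
    by_contra h
    push Not at h
    refine hne ⟨r, hr, ?_, ?_, h.1, h.2⟩
    · rintro rfl
      exact not_dvd_card_commutator hcp hrD
    · rintro rfl
      exact hnadj h.1
  by_cases hcq : SylCen G q
  · exact false_of_both hnadj hcp hcq hvp hvq hcov
  · refine hG (isSolvable_of_one hcp hvp fun r hr hrD hadj => ?_)
    haveI := Fact.mk hr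
    have hrq : ¬ Adj G q r := (hcov r hr hrD).resolve_left (not_not.mpr hadj)
    have hne' : q ≠ r := fun e => hnadj (e ▸ hadj)
    exact not_dvd_card_commutator ((sylCen_or hne' hrq).resolve_left hcq) hrD

end H8.ClassGraphDiam
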